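import Groth.Agent.CycLib28.K0.Heller
import Groth.Agent.CycLib28.K0.PeriodicPair
import Mathlib.CategoryTheory.Abelian.SerreClass.Localization

/-!
# The localization sequence for `K₀` of a Serre class
-/

set_option autoImplicit false
set_option linter.style.haveILetI false
universe v v' u u'

open CategoryTheory CategoryTheory.Limits KZero
open scoped ZeroObject

namespace Groth.Agent.SerreK0Lib28

variable {A : Type u} [Category.{v} A] [Abelian A]

theorem cl_ses {S : ShortComplex A} (hS : S.ShortExact) : cl S.X₂ = cl S.X₁ + cl S.X₃ := by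
  rw [cl, cl, cl, ← QuotientAddGroup.mk_add, eq_comm, QuotientAddGroup.eq]
  exact AddSubgroup.subset_closure ⟨S, hS, by abel⟩

theorem cl_isZero {Z : A} (hZ : IsZero Z) : cl Z = 0 := by
  have h := cl_ses (S := ShortComplex.mk (0 : Z ⟶ Z) (0 : Z ⟶ Z) zero_comp)
    { exact := ShortComplex.exact_of_isZero_X₂ _ hZ
      mono_f := ⟨fun g h _ => hZ.eq_of_tgt g h⟩
      epi_g := ⟨fun g h _ => hZ.eq_of_src g h⟩ }
  exact left_eq_add.1 h

theorem cl_iso {X Y : A} (e : X ≅ Y) : cl X = cl Y := by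
  have h := cl_ses (S := ShortComplex.mk e.hom (0 : Y ⟶ 0) comp_zero)
    { exact := (ShortComplex.exact_iff_epi _ rfl).2 (inferInstanceAs (Epi e.hom))
      mono_f := inferInstanceAs (Mono e.hom)
      epi_g := ⟨fun g h _ => (isZero_zero A).eq_of_src g h⟩ }
  rw [cl_isZero (isZero_zero A), add_zero] at h
  exact h.symm

theorem cl_kernel {X Y : A} (f : X ⟶ Y) : cl X = cl (kernel f) + cl (Abelian.image f) := by
  refine (cl_ses (S := ShortComplex.mk (kernel.ι f) (Abelian.factorThruImage f) ?_) ?_)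
  · rw [← cancel_mono (Abelian.image.ι f)]
    simp
  · exact
      { exact := ShortComplex.exact_of_f_is_kernel _
          (KernelFork.IsLimit.ofι _ _
            (fun g hg => kernel.lift f g (by
              rw [← Abelian.image.fac f, ← Category.assoc, hg, zero_comp]))
            (fun g hg => kernel.lift_ι _ _ _)
            (fun g hg m hm => by rw [← cancel_mono (kernel.ι f), hm, kernel.lift_ι]))
        mono_f := inferInstanceAs (Mono (kernel.ι f))
        epi_g := inferInstanceAs (Epi (Abelian.factorThruImage f)) }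

theorem cl_cokernel {X Y : A} (f : X ⟶ Y) : cl Y = cl (Abelian.image f) + cl (cokernel f) :=
  cl_ses (S := ShortComplex.mk (Abelian.image.ι f) (cokernel.π f) (kernel.condition _))
    { exact := ShortComplex.exact_of_f_is_kernel _ (kernelIsKernel _)
      mono_f := inferInstanceAs (Mono (Abelian.image.ι f))
      epi_g := inferInstanceAs (Epi (cokernel.π f)) }

theorem cl_kernel_cokernel {X Y : A} (f : X ⟶ Y) :
    cl Y - cl X = cl (cokernel f) - cl (kernel f) := by
  rw [cl_kernel f, cl_cokernel f]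
  abel

theorem cl_biprod (X Y : A) : cl (X ⊞ Y) = cl X + cl Y :=
  cl_ses (S := ShortComplex.mk biprod.inl biprod.snd biprod.inl_snd)
    (ShortComplex.Splitting.ofHasBinaryBiproduct X Y).shortExact

/-- Classes in a periodic complex. -/
theorem cl_homology {M : A} (φ ψ : M ⟶ M) (h₁ : φ ≫ ψ = 0) :
    cl (kernel ψ) = cl (Abelian.image φ) + cl (ShortComplex.mk φ ψ h₁).homology := by
  let S := ShortComplex.mk φ ψ h₁
  let d := S.leftHomologyData
  have h := cl_cokernel d.f'
  have e1 : cl (cokernel d.f') = cl S.homology :=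
    (cl_iso (IsColimit.coconePointUniqueUpToIso (cokernelIsCokernel d.f') d.hπ')).trans
      (cl_iso d.homologyIso.symm)
  rw [e1] at h
  have hk : cl d.K = cl (kernel ψ) := cl_iso (IsLimit.conePointUniqueUpToIso d.hi (limit.isLimit _))
  have him : cl (Abelian.image d.f') = cl (Abelian.image φ) := by
    have hm : Mono d.i := inferInstance
    have e : kernel d.f' ≅ kernel φ :=
      (kernelCompMono d.f' d.i).symm ≪≫ kernelIsoOfEq d.f'_i
    have h1 := cl_kernel d.f'
    have h2 := cl_kernel φ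
    rw [cl_iso e, h2] at h1
    exact (add_left_cancel h1).symm
  rwa [hk, him] at h

variable (P : ObjectProperty A)

/-- Inclusion of classes. -/
noncomputable def incl : K0sub P →+ K0 A :=
  QuotientAddGroup.lift _ (FreeAbelianGroup.lift fun X : Subtype P => cl X.1) (by
    rw [relSub, AddSubgroup.closure_le]
    rintro _ ⟨S, h₁, h₂, h₃, hS, rfl⟩
    simp [cl_ses hS])

theorem incl_clSub {X : A} (hX : P X) : incl P (clSub P X) = cl X := by
  rw [clSub, dif_pos hX]
  exact FreeAbelianGroup.lift_apply_of _ _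

theorem clSub_biprod [P.IsSerreClass] {X Y : A} (hX : P X) (hY : P Y) :
    clSub P (X ⊞ Y) = clSub P X + clSub P Y := by
  have hS := (ShortComplex.Splitting.ofHasBinaryBiproduct X Y).shortExact
  have hXY : P (X ⊞ Y) := P.prop_X₂_of_shortExact hS hX hY
  rw [clSub, clSub, clSub, dif_pos hX, dif_pos hY, dif_pos hXY, ← QuotientAddGroup.mk_add, eq_comm,
    QuotientAddGroup.eq]
  exact AddSubgroup.subset_closure ⟨_, hX, hXY, hY, hS, by abel⟩

theorem clSub_iso [P.IsSerreClass] {X Y : A} (e : X ≅ Y) (hX : P X) : clSub P X = clSub P Y := by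
  have hY : P Y := P.prop_of_iso e hX
  have h0 : P (0 : A) := P.prop_of_isZero (isZero_zero A)
  have hS : (ShortComplex.mk e.hom (0 : Y ⟶ 0) comp_zero).ShortExact :=
    { exact := (ShortComplex.exact_iff_epi _ rfl).2 (inferInstanceAs (Epi e.hom))
      mono_f := inferInstanceAs (Mono e.hom)
      epi_g := ⟨fun g h _ => (isZero_zero A).eq_of_src g h⟩ }
  have hz : (QuotientAddGroup.mk (FreeAbelianGroup.of ⟨(0 : A), h0⟩) : K0sub P) = 0 := by
    have hS0 : (ShortComplex.mk (0 : (0 : A) ⟶ 0) (0 : (0 : A) ⟶ 0) zero_comp).ShortExact :=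
      { exact := ShortComplex.exact_of_isZero_X₂ _ (isZero_zero A)
        mono_f := ⟨fun g h _ => (isZero_zero A).eq_of_tgt g h⟩
        epi_g := ⟨fun g h _ => (isZero_zero A).eq_of_src g h⟩ }
    refine (QuotientAddGroup.eq_zero_iff _).2 (neg_mem_iff.1 ?_)
    exact AddSubgroup.subset_closure ⟨_, h0, h0, h0, hS0, by abel⟩
  rw [clSub, clSub, dif_pos hX, dif_pos hY]
  have h : (QuotientAddGroup.mk (FreeAbelianGroup.of ⟨X, hX⟩ + FreeAbelianGroup.of ⟨(0 : A), h0⟩) : K0sub P) =
      QuotientAddGroup.mk (FreeAbelianGroup.of ⟨Y, hY⟩) :=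
    QuotientAddGroup.eq.2 (AddSubgroup.subset_closure ⟨_, hX, hY, h0, hS, by abel⟩)
  rwa [QuotientAddGroup.mk_add, hz, add_zero] at h

theorem clSub_zero [P.IsSerreClass] : clSub P (0 : A) = 0 := by
  have h0 : P (0 : A) := P.prop_of_isZero (isZero_zero A)
  have h := clSub_biprod P h0 h0
  rw [← clSub_iso P (isoBiprodZero (X := (0 : A)) (isZero_zero A)) h0] at h
  exact left_eq_add.1 h

/-- Every class is a difference of two objects. -/
theorem exists_sub [P.IsSerreClass] (x : K0sub P) :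
    ∃ E₁ E₂ : A, P E₁ ∧ P E₂ ∧ x = clSub P E₁ - clSub P E₂ := by
  have h0 : P (0 : A) := P.prop_of_isZero (isZero_zero A)
  induction x using QuotientAddGroup.induction_on with | _ z
  induction z using FreeAbelianGroup.induction_on with
  | zero => exact ⟨0, 0, h0, h0, (sub_self _).symm⟩
  | of X => exact ⟨X.1, 0, X.2, h0, by rw [clSub_zero, sub_zero, clSub, dif_pos X.2]⟩
  | neg X _ => exact ⟨0, X.1, h0, X.2, by rw [clSub_zero, zero_sub, clSub, dif_pos X.2]; rfl⟩
  | add a b ha hb =>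
    obtain ⟨E₁, E₂, h₁, h₂, e⟩ := ha
    obtain ⟨F₁, F₂, g₁, g₂, e'⟩ := hb
    refine ⟨E₁ ⊞ F₁, E₂ ⊞ F₂, P.prop_X₂_of_shortExact (ShortComplex.Splitting.ofHasBinaryBiproduct _ _).shortExact h₁ g₁,
      P.prop_X₂_of_shortExact (ShortComplex.Splitting.ofHasBinaryBiproduct _ _).shortExact h₂ g₂, ?_⟩
    rw [QuotientAddGroup.mk_add, e, e', clSub_biprod P h₁ g₁, clSub_biprod P h₂ g₂, add_sub_add_comm]

/-- Heller's criterion in `K₀`. -/
theorem exists_periodic_of_cl_eq {E₁ E₂ : A} (h : cl E₁ = cl E₂) :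
    ∃ (M : A) (φ ψ : M ⟶ M) (h₁ : φ ≫ ψ = 0) (h₂ : ψ ≫ φ = 0),
      Nonempty ((ShortComplex.mk φ ψ h₁).homology ≅ E₁) ∧ Nonempty ((ShortComplex.mk ψ φ h₂).homology ≅ E₂) := by
  let T : ObjectProperty A := ⊤
  let θ : K0 A →+ K0sub T :=
    QuotientAddGroup.lift _ (FreeAbelianGroup.lift fun X : A => clSub T X) (by
      rw [relAb, AddSubgroup.closure_le]
      rintro _ ⟨S, hS, rfl⟩
      simp only [SetLike.mem_coe, AddMonoidHom.mem_ker, map_sub, FreeAbelianGroup.lift_apply_of]
      have hT : ∀ X : A, clSub T X = QuotientAddGroup.mk (FreeAbelianGroup.of ⟨X, trivial⟩) :=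
        fun X => dif_pos trivial
      rw [hT, hT, hT]
      rw [← QuotientAddGroup.mk_sub, ← QuotientAddGroup.mk_sub]
      exact (QuotientAddGroup.eq_zero_iff _).2
        (AddSubgroup.subset_closure ⟨S, trivial, trivial, trivial, hS, rfl⟩))
  have hθ : ∀ X : A, θ (cl X) = clSub T X := fun X => FreeAbelianGroup.lift_apply_of _ _
  have h' : clSub T E₂ = clSub T E₁ := by rw [← hθ, ← hθ, h]
  obtain ⟨X, L, R, i, p, i', p', w, w', -, -, -, hS, hS'⟩ :=
    CycLib28.K0.heller_of_clSub_eq (P := T) trivial (fun _ _ => trivial) trivial trivial h'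
  obtain ⟨φ, ψ, h₁, h₂, e₁, e₂⟩ := CycLib28.K0.exists_periodic i p i' p' w w' hS hS'
  exact ⟨_, φ, ψ, h₁, h₂, e₁, e₂⟩

end Groth.Agent.SerreK0Lib28
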